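import Groth.Agent.VBCurve.K587.Tower
import Groth.Agent.VBCurve.K471.SubD
import Groth.Agent.VBCurve.K569.SubInv

/-!
# SUB-TOWER (S15230), with the vanishing of `R¹ π_*` as a hypothesis
-/

set_option autoImplicit false
universe u
open CategoryTheory CategoryTheory.Limits AlgebraicGeometry

namespace K587.Tower

open Groth.Agent K553.Sub

variable {k : Type u} [Field k] [IsAlgClosed k] (C : Over (Spec (CommRingCat.of k)))
  [IsIntegral C.left] [IsProper C.hom] [Smooth C.hom] (hdim : topologicalKrullDim C.left = 1)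

include hdim in
/-- the tower, given `R¹ π_* q^* N(-graphs of z :: l) = 0` -/
theorem exists_tower_of {T : Over (Spec (CommRingCat.of k))} {N : C.left.Modules} (hN : PicF.IsInvertible N)
    (l : List (T ⟶ C)) (z : T ⟶ C) [HasInjectiveResolutions (TX C T).left.Modules]
    (hR : IsZero ((Coh.Rpush (pr C T).left 1).obj (tw N (up (z :: l)) (qr C T)))) :
    ∃ (b : K N l ⟶ tw N l z) (w : Kπ N z l ≫ b = 0), (ShortComplex.mk _ _ w).ShortExact ∧
      b ≫ twι N l z = Kι N l ≫ ev N z := by
  have h1 : SmoothOfRelativeDimension 1 C.hom :=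
    Picfga.CurveRelDim.smoothOfRelativeDimension_of_topologicalKrullDim_eq k C.left C.hom 1 (by simpa using hdim)
  exact tower_of N l z (isInvertible_tw C hdim N hN (up l) (qr C T))
    (nonempty_tw_pull (lft (𝟙 T) z) N (up l) (qr C T)) hR

end K587.Tower
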