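import Groth.Agent.Vanish.K911.PullIdeal
import Groth.Agent.Dcoh.MonTm
import Groth.Agent.Krr.H478.Cosection

/-!
# The restriction sequence of an effective Cartier divisor

`shortExact_mulc`: for a closed immersion `Γ : T ⟶ P` with effective Cartier kernel, a module `D` isomorphic to the
ideal module of `Γ` and an invertible module `M`, the sequence `0 ⟶ D ⊗ M ⟶ M ⟶ Γ_* Γ^* M ⟶ 0` is exact.
-/

set_option autoImplicit false
universe u
open CategoryTheory CategoryTheory.Limits AlgebraicGeometry Opposite TopologicalSpace MonoidalCategory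
open scoped TensorProduct

namespace K587.Graph

open Groth.Agent Groth.Agent.Sga67.Sec Groth.Agent.Sga67.LocBasis Groth.Agent.Krr.H487.LocBasisPull
open Groth.Agent.Dix.IdealModCartier Groth.Agent.Krr.H478.Cosection
open scoped Groth.Agent.Dcoh.MonCat

variable {T P : Scheme.{u}}

/-- `D ⊗ M ⟶ M` for a cosection `ι : D ⟶ O`. -/
noncomputable def mulc {D : P.Modules} (ι : D ⟶ Coh.structureModule P) (M : P.Modules) :
    CohB1.tensorMod D M ⟶ M :=
  (ι ▷ M : D ⊗ M ⟶ 𝟙_ P.Modules ⊗ M) ≫ (λ_ M).hom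

theorem mulc_tau {D : P.Modules} (ι : D ⟶ Coh.structureModule P) (M : P.Modules) {U : P.Opens}
    (d : Sec D U) (m : Sec M U) :
    appS (mulc ι M) U (tau D M U (d ⊗ₜ[Γ(P, U)] m)) = toO (appS ι U d) • m := by
  have h1 := Dcoh.MonTm.whiskerRight_tm (U := U) ι M d m
  have h2 := Dcoh.MonTm.leftUnitor_hom_tm (N := M) (U := U) (ι.app U d) m
  refine (congr((λ_ M).hom.app U $h1)).trans ?_
  exact h2

theorem exists_gen_inv {M : P.Modules} (hM : PicF.IsInvertible M) (x : P) :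
    ∃ (U : P.Opens) (_ : x ∈ U) (e : Sec M U), Gen e :=
  exists_gen (Ega2.QCohLocal.isFinLocFreeOfRank_one_iff.2 hM) x

theorem mem_ker_ideal (Γ : T ⟶ P) [QuasiCompact Γ] (U : P.affineOpens) (a : Γ(P, U.1)) :
    a ∈ Γ.ker.ideal U ↔ Γ.app U.1 a = 0 := by
  rw [Scheme.Hom.ker_apply]
  exact RingHom.mem_ker

/-- local data -/
theorem exists_local (Γ : T ⟶ P) [IsClosedImmersion Γ] (hI : BlowUp.IsEffCartierIdeal Γ.ker)
    {D : P.Modules} (ι : D ⟶ Coh.structureModule P) (e : D ≅ ClSub.idealMod Γ.ker)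
    (he : e.hom ≫ ClSub.idealModι Γ.ker = ι) {M : P.Modules} (hM : PicF.IsInvertible M) (x : P) (O : P.Opens)
    (hx : x ∈ O) : ∃ (U : P.affineOpens) (_ : U.1 ≤ O) (_ : x ∈ U.1) (d : Sec D U.1) (m : Sec M U.1),
      Gen d ∧ Gen m ∧ Γ.ker.ideal U = Ideal.span {toO (appS ι U.1 d)} := by
  obtain ⟨U₁, a, hx₁, ha⟩ := exists_genOn hI x
  obtain ⟨U₂, hx₂, m, hm⟩ := exists_gen_inv hM x
  obtain ⟨W, hxW, hW⟩ := exists_affine_mem_le ((U₁.1 ⊓ U₂) ⊓ O) x ⟨⟨hx₁, hx₂⟩, hx⟩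
  have l₁ : W.1 ≤ U₁.1 := hW.trans (inf_le_left.trans inf_le_left)
  have l₂ : W.1 ≤ U₂ := hW.trans (inf_le_left.trans inf_le_right)
  obtain ⟨s, hs⟩ := exists_val_eq Γ.ker W (a := Groth.Agent.Fdesc.LocGen.ores l₁ a) (by
    rw [(ha W l₁).2]; exact Ideal.mem_span_singleton_self _)
  have gs : Gen (show Sec (ClSub.idealMod Γ.ker) W.1 from s) :=
    K911.PullIdeal.gen_of_isGen (isGen_of_genOn (hs.symm ▸ ha.res l₁))
  have gd : Gen (appS e.inv W.1 (show Sec (ClSub.idealMod Γ.ker) W.1 from s)) :=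
    IsLocBasis.of_iso gs e.symm
  refine ⟨W, hW.trans inf_le_right, hxW, _, res M l₂ m, gd, hm.restrict l₂, ?_⟩
  rw [(ha W l₁).2, ← he, appS_comp, appS_inv_hom]
  congr 2
  exact hs.symm

variable (Γ : T ⟶ P) [IsClosedImmersion Γ] (hI : BlowUp.IsEffCartierIdeal Γ.ker)
    {D : P.Modules} (ι : D ⟶ Coh.structureModule P) (e : D ≅ ClSub.idealMod Γ.ker)
    (he : e.hom ≫ ClSub.idealModι Γ.ker = ι) {M : P.Modules} (hM : PicF.IsInvertible M)

include hI he hM in
theorem mulc_unit : mulc ι M ≫ (Scheme.Modules.pullbackPushforwardAdjunction Γ).unit.app M = 0 := by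
  apply tensor_hom_ext
  intro x O hx
  obtain ⟨U, hU, hxU, d, m, hd, hm, hk⟩ := exists_local Γ hI ι e he hM x O hx
  refine ⟨U.1, hU, hxU, fun d' m' => ?_⟩
  obtain ⟨c, rfl⟩ := hd.exists_eq le_rfl d'
  rw [res_self, appS_comp, mulc_tau, ← pbS_def, pbS_smul, map_smul, toO_smul]
  have h1 : (Γ.app U.1 (c * toO (appS ι U.1 d)) : Γ(T, Γ ⁻¹ᵁ U.1)) = 0 := by
    rw [← mem_ker_ideal, hk]
    exact Ideal.mul_mem_left _ _ (Ideal.mem_span_singleton_self _)
  rw [h1, zero_smul]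
  rfl

include hI he hM in
theorem shortExact_mulc : (ShortComplex.mk _ _ (mulc_unit Γ hI ι e he hM)).ShortExact := by
  have hmono : Mono ι := by
    rw [← he]
    have : Mono (ClSub.idealModι Γ.ker) := by
      apply mono_of_locally_injective
      intro x O hx
      exact ⟨O, le_rfl, hx, fun s hs => val_injective Γ.ker
        (hs.trans (map_zero ((ClSub.idealModι Γ.ker).app O).hom).symm)⟩
    infer_instance
  have h1 : Mono (mulc ι M) := by
    apply mono_of_locally_injective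
    intro x O hx
    obtain ⟨U, hU, hxU, d, m, hd, hm, hk⟩ := exists_local Γ hI ι e he hM x O hx
    refine ⟨U.1, hU, hxU, fun s hs => ?_⟩
    obtain ⟨t, rfl⟩ := exists_tau_eq hd hm s
    obtain ⟨c, rfl⟩ := hm.exists_eq le_rfl t
    rw [mulc_tau, res_self, smul_smul] at hs
    have h2 := hm.eq_zero le_rfl (by rw [res_self]; exact hs)
    have h3 : appS ι U.1 (c • d) = 0 := by
      rw [map_smul]
      change toO (c • appS ι U.1 d) = 0
      rw [toO_smul, mul_comm]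
      exact h2
    have h4 := injective_of_mono ι U.1 (h3.trans (map_zero _).symm)
    have h5 : c = 0 := hd.eq_zero le_rfl (by rw [res_self]; exact h4)
    rw [h5, zero_smul, TensorProduct.tmul_zero, map_zero]
  have h2 : Epi ((Scheme.Modules.pullbackPushforwardAdjunction Γ).unit.app M) := by
    apply epi_of_locally_surjective
    intro O s x hx
    obtain ⟨U, hU, hxU, d, m, hd, hm, hk⟩ := exists_local Γ hI ι e he hM x O hx
    refine ⟨U.1, hU, hxU, ?_⟩
    obtain ⟨c, hc⟩ := (hm.pbS Γ).exists_eq (V := Γ ⁻¹ᵁ U.1) le_rfl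
      (show Sec ((Scheme.Modules.pullback Γ).obj M) (Γ ⁻¹ᵁ U.1) from res _ hU s)
    obtain ⟨c', rfl⟩ := Γ.app_surjective U.1 U.2 c
    refine ⟨c' • m, ?_⟩
    rw [res_self, ← pbS_smul] at hc
    exact hc.symm
  refine ⟨?_⟩
  apply exact_of_locally
  intro O s hs x hx
  obtain ⟨U, hU, hxU, d, m, hd, hm, hk⟩ := exists_local Γ hI ι e he hM x O hx
  refine ⟨U.1, hU, hxU, ?_⟩
  obtain ⟨c, hc⟩ := hm.exists_eq le_rfl (res M hU s)
  rw [res_self] at hc
  have h3 : pbS Γ M (c • m) = 0 := by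
    rw [← hc, ← res_pbS Γ M hU (fun y hy => hU hy)]
    have : pbS Γ M s = 0 := hs
    rw [this, map_zero]
  rw [hm.pbS_smul_eq_zero_iff, ← mem_ker_ideal, hk, Ideal.mem_span_singleton'] at h3
  obtain ⟨b, hb⟩ := h3
  refine ⟨tau D M U.1 (d ⊗ₜ[Γ(P, U.1)] (b • m)), ?_⟩
  refine (mulc_tau ι M d (b • m)).trans ?_
  refine Eq.trans ?_ hc.symm
  rw [smul_smul, mul_comm, hb]

end K587.Graph
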