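import Groth.Agent.VBCurve.K587.Graph
import Groth.Agent.VBCurve.K553.SubDefs2
import Groth.Agent.Sga4B.RelSect
import Groth.Agent.Picfga.CurveRelDim
import Groth.Agent.Cohder.RDAcyc

/-!
# SUB-TOWER (S15230)
-/

set_option autoImplicit false
universe u
open CategoryTheory CategoryTheory.Limits AlgebraicGeometry Opposite TopologicalSpace MonoidalCategory

namespace K587.Tower

open Groth.Agent K553.Sub Groth.Agent.Sga67.Sec Groth.Agent.Krr.H487.LocBasisPull
open Groth.Agent.Sga67.LocBasis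
open scoped Groth.Agent.Dcoh.MonCat

section abs

universe v₁ v₂ u₁ u₂

theorem abs_tower {𝒜 : Type u₁} {ℬ : Type u₂} [Category.{v₁} 𝒜] [Category.{v₂} ℬ] [Abelian 𝒜] [Abelian ℬ]
    (F : 𝒜 ⥤ ℬ) [F.Additive] {L : 𝒜 ⥤ ℬ} {R : ℬ ⥤ 𝒜} (adj : L ⊣ R) (κ : R ⋙ F ≅ 𝟭 ℬ)
    {A M Q : 𝒜} {W Z : ℬ} (f : A ⟶ M) (w : f ≫ adj.unit.app M = 0)
    (hS : ((ShortComplex.mk f (adj.unit.app M) w).map F).ShortExact)
    (θ : L.obj M ≅ W) (t : M ⟶ Q) (u : W ⟶ Z) (v : L.obj Q ⟶ Z) (hθ : θ.hom ≫ u = L.map t ≫ v) :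
    ∃ (b : F.obj M ⟶ W) (w : F.map f ≫ b = 0), (ShortComplex.mk _ _ w).ShortExact ∧
      b ≫ u = F.map t ≫ (F.map (adj.unit.app Q) ≫ κ.hom.app (L.obj Q) ≫ v) := by
  let e3 : F.obj (R.obj (L.obj M)) ≅ W := κ.app (L.obj M) ≪≫ θ
  have hw : F.map f ≫ F.map (adj.unit.app M) ≫ e3.hom = 0 := by
    rw [← Category.assoc, ← F.map_comp, w, F.map_zero, zero_comp]
  refine ⟨F.map (adj.unit.app M) ≫ e3.hom, hw, ?_, ?_⟩
  · refine ShortComplex.shortExact_of_iso (S₁ := (ShortComplex.mk f (adj.unit.app M) w).map F)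
      (ShortComplex.isoMk (Iso.refl _) (Iso.refl _) e3 ?_ ?_) hS
    · exact (Category.id_comp _).trans (Category.comp_id _).symm
    · exact Category.id_comp _
  · have n1 := adj.unit.naturality t
    have n2 := κ.hom.naturality (L.map t)
    dsimp at n1 n2
    rw [Category.assoc]
    change _ ≫ (κ.hom.app _ ≫ θ.hom) ≫ u = _
    rw [Category.assoc, hθ, ← reassoc_of% n2, ← Category.assoc, ← F.map_comp, ← n1, F.map_comp, Category.assoc]

end abs

section gen

theorem unitHom_eq {X Y : Scheme.{u}} (q : Y ⟶ X) :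
    K911.PullIdeal.unitHom q = (Groth.Agent.Krr.H482.PullTens.pullUnitIso q).hom := by
  apply K911.PullIdeal.hom_ext_pbS
  intro U s
  have h1 := K911.PullIdeal.unitHom_pbS q U (toO s)
  rw [toO_smul_one] at h1
  have h2 := Fga.UnitRestrict.unit_pullbackUnitHom q
  have h3 : appS ((Groth.Agent.Krr.H482.PullTens.pullUnitIso q).hom) (q ⁻¹ᵁ U) (pbS q _ s) =
      (q.app U (toO s) : Γ(Y, q ⁻¹ᵁ U)) := congr(appS $h2 U s)
  exact Eq.trans h1 h3.symm

variable {S : Scheme.{u}} {C : Over S}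

theorem pair_fst {T : Over S} (a b : T ⟶ C) : K553.Sub.pair a b ≫ pullback.fst C.hom C.hom = a.left :=
  pullback.lift_fst _ _ _

theorem pair_snd {T : Over S} (a b : T ⟶ C) : K553.Sub.pair a b ≫ pullback.snd C.hom C.hom = b.left :=
  pullback.lift_snd _ _ _

theorem TX_ext {T : Over S} {W : Scheme.{u}} {f g : W ⟶ (TX C T).left}
    (h1 : f ≫ (pr C T).left = g ≫ (pr C T).left) (h2 : f ≫ (qr C T).left = g ≫ (qr C T).left) : f = g :=
  pullback.hom_ext h1 h2

theorem gr_pr {T : Over S} (z : T ⟶ C) : (lft (𝟙 T) z).left ≫ (pr C T).left = 𝟙 T.left :=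
  congr(($(lft_pr (𝟙 T) z)).left)

theorem gr_qr {T : Over S} (z : T ⟶ C) : (lft (𝟙 T) z).left ≫ (qr C T).left = z.left :=
  congr(($(lft_qr (𝟙 T) z)).left)

theorem pair_comp {T : Over S} (z : T ⟶ C) :
    (lft (𝟙 T) z).left ≫ K553.Sub.pair (pr C T ≫ z) (qr C T) = z.left ≫ pullback.diagonal C.hom := by
  apply pullback.hom_ext
  · rw [Category.assoc, Category.assoc, pullback.diagonal_fst, Category.comp_id, pair_fst, Over.comp_left,
      ← Category.assoc, gr_pr, Category.id_comp]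
  · rw [Category.assoc, Category.assoc, pullback.diagonal_snd, Category.comp_id, pair_snd, gr_qr]

theorem isPullback_graph {T : Over S} (z : T ⟶ C) :
    IsPullback z.left (lft (𝟙 T) z).left (pullback.diagonal C.hom)
      (K553.Sub.pair (pr C T ≫ z) (qr C T)) := by
  have hs : ∀ s : PullbackCone (pullback.diagonal C.hom) (K553.Sub.pair (pr C T ≫ z) (qr C T)),
      (s.snd ≫ (pr C T).left) ≫ z.left = s.fst ∧ s.snd ≫ (qr C T).left = s.fst := by
    intro s
    have h := congr($(s.condition) ≫ pullback.fst C.hom C.hom)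
    have h' := congr($(s.condition) ≫ pullback.snd C.hom C.hom)
    rw [Category.assoc, Category.assoc, pullback.diagonal_fst, pair_fst, Category.comp_id] at h
    rw [Category.assoc, Category.assoc, pullback.diagonal_snd, pair_snd, Category.comp_id] at h'
    exact ⟨by rw [h, Over.comp_left, Category.assoc], h'.symm⟩
  refine IsPullback.of_isLimit (h := (PullbackCone.IsLimit.mk (pair_comp z).symm
    (fun s => s.snd ≫ (pr C T).left) ?_ ?_ ?_))
  · intro s
    exact (hs s).1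
  · intro s
    apply TX_ext
    · rw [Category.assoc, gr_pr, Category.comp_id]
    · rw [Category.assoc, gr_qr, (hs s).1, (hs s).2]
  · intro s m h1 h2
    rw [← h2, Category.assoc, gr_pr, Category.comp_id]

theorem exists_D_iso [IsSeparated C.hom] [SmoothOfRelativeDimension 1 C.hom] {T : Over S} (z : T ⟶ C) :
    IsClosedImmersion (lft (𝟙 T) z).left ∧ BlowUp.IsEffCartierIdeal (lft (𝟙 T) z).left.ker ∧
    ∃ e : D (pr C T ≫ z) (qr C T) ≅ ClSub.idealMod (lft (𝟙 T) z).left.ker,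
      e.hom ≫ ClSub.idealModι (lft (𝟙 T) z).left.ker = Dι (pr C T ≫ z) (qr C T) := by
  have i1 : IsSeparated (pr C T).left := by
    change IsSeparated (pullback.fst T.hom C.hom); infer_instance
  have i0 : MorphismProperty.IsStableUnderBaseChange (@SmoothOfRelativeDimension.{u} 1) :=
    smoothOfRelativeDimension_isStableUnderBaseChange 1
  have i2 : SmoothOfRelativeDimension 1 (pr C T).left :=
    i0.of_isPullback (IsPullback.of_hasPullback T.hom C.hom).flip inferInstance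
  have i4 : SmoothOfRelativeDimension 1 (pullback.fst C.hom C.hom) :=
    i0.of_isPullback (IsPullback.of_hasPullback C.hom C.hom).flip inferInstance
  have i3 := Sga4B.RelSect.isClosedImmersion_section (pr C T).left (lft (𝟙 T) z).left (gr_pr z)
  have h1 := Sga4B.RelSect.isEffCartierIdeal_ker (pr C T).left (lft (𝟙 T) z).left (gr_pr z)
  have h2 : BlowUp.IsEffCartierIdeal (pullback.diagonal C.hom).ker :=
    Sga4B.RelSect.isEffCartierIdeal_ker (pullback.fst C.hom C.hom) (pullback.diagonal C.hom)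
      (pullback.diagonal_fst _)
  have hk := Picfga.SecGraph.ker_eq_comap_of_isPullback (isPullback_graph z)
  refine ⟨i3, h1, ?_⟩
  rw [hk] at h1 ⊢
  obtain ⟨θ, hθ⟩ := K911.PullIdeal.exists_idealIso (K553.Sub.pair (pr C T ≫ z) (qr C T)) h2 h1
  refine ⟨θ, hθ.trans ?_⟩
  rw [unitHom_eq]
  rfl

/-- `(Γ ≫ π)_* ≅ id` for the graph -/
noncomputable def kap {T : Over S} (z : T ⟶ C) :
    Scheme.Modules.pushforward (lft (𝟙 T) z).left ⋙ Coh.push (pr C T).left ≅ 𝟭 T.left.Modules :=
  Scheme.Modules.pushforwardComp (lft (𝟙 T) z).left (pr C T).left ≪≫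
    Scheme.Modules.pushforwardCongr (show (lft (𝟙 T) z).left ≫ (pr C T).left = 𝟙 T.left by
      rw [← Over.comp_left, lft_pr]; rfl) ≪≫
    Scheme.Modules.pushforwardId T.left

theorem ev_eq {T : Over S} (N : C.left.Modules) (y : T ⟶ C) : ev N y =
    (Coh.push (pr C T).left).map
      ((Scheme.Modules.pullbackPushforwardAdjunction (lft (𝟙 T) y).left).unit.app
        ((Scheme.Modules.pullback (qr C T).left).obj N)) ≫
    (kap y).hom.app _ ≫
    (Scheme.Modules.pullbackComp (lft (𝟙 T) y).left (qr C T).left).hom.app N ≫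
    (Scheme.Modules.pullbackCongr (gr_qr y)).hom.app N := by
  simp only [kap, ev, Iso.trans_hom, NatTrans.comp_app, Category.assoc]
  rfl

theorem up_map {T : Over S} (z : T ⟶ C) (l : List (T ⟶ C)) :
    ((up l).map fun w => lft (𝟙 T) z ≫ w) = l := by
  unfold up
  rw [List.map_map]
  conv_rhs => rw [← List.map_id l]
  apply List.map_congr_left
  intro a _
  change lft (𝟙 T) z ≫ pr C T ≫ a = a
  rw [lft_pr_assoc, Category.id_comp]

theorem exists_pull_of {T U : Over S} (f : U ⟶ T) (N : C.left.Modules) (l : List (T ⟶ C)) (y : T ⟶ C)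
    (H : ∃ e : (Scheme.Modules.pullback f.left).obj (tw N l y) ≅ tw N (l.map fun z => f ≫ z) (f ≫ y),
      e.hom ≫ twι N (l.map fun z => f ≫ z) (f ≫ y) =
        (Scheme.Modules.pullback f.left).map (twι N l y) ≫
          (Scheme.Modules.pullbackComp f.left y.left).hom.app N) 
    (l' : List (U ⟶ C)) (y' : U ⟶ C) (hl : (l.map fun z => f ≫ z) = l') (hy : f ≫ y = y')
    (hy' : f.left ≫ y.left = y'.left) :
    ∃ e : (Scheme.Modules.pullback f.left).obj (tw N l y) ≅ tw N l' y',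
      e.hom ≫ twι N l' y' =
        (Scheme.Modules.pullback f.left).map (twι N l y) ≫
          (Scheme.Modules.pullbackComp f.left y.left).hom.app N ≫
          (Scheme.Modules.pullbackCongr hy').hom.app N := by
  subst hl hy
  obtain ⟨e, he⟩ := H
  refine ⟨e, he.trans ?_⟩
  have : (Scheme.Modules.pullbackCongr hy').hom.app N = 𝟙 _ := by
    simp [Scheme.Modules.pullbackCongr]
  rw [this]
  erw [Category.comp_id]

/-- The tower, from the vanishing of `R¹`. -/
theorem tower_of [IsSeparated C.hom] [SmoothOfRelativeDimension 1 C.hom] {T : Over S}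
    (N : C.left.Modules) (l : List (T ⟶ C)) (z : T ⟶ C)
    (hM : PicF.IsInvertible (tw N (up l) (qr C T)))
    (H : ∃ e : (Scheme.Modules.pullback (lft (𝟙 T) z).left).obj (tw N (up l) (qr C T)) ≅ 
        tw N ((up l).map fun w => lft (𝟙 T) z ≫ w) (lft (𝟙 T) z ≫ qr C T),
      e.hom ≫ twι N ((up l).map fun w => lft (𝟙 T) z ≫ w) (lft (𝟙 T) z ≫ qr C T) =
        (Scheme.Modules.pullback (lft (𝟙 T) z).left).map (twι N (up l) (qr C T)) ≫
          (Scheme.Modules.pullbackComp (lft (𝟙 T) z).left (qr C T).left).hom.app N) 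
    [HasInjectiveResolutions (TX C T).left.Modules]
    (hR : IsZero ((Coh.Rpush (pr C T).left 1).obj (tw N (up (z :: l)) (qr C T)))) :
    ∃ (b : K N l ⟶ tw N l z) (w : Kπ N z l ≫ b = 0), (ShortComplex.mk _ _ w).ShortExact ∧
      b ≫ twι N l z = Kι N l ≫ ev N z := by
  obtain ⟨i1, h1, e, he⟩ := exists_D_iso z
  obtain ⟨θ, hθ⟩ := exists_pull_of (lft (𝟙 T) z) N (up l) (qr C T) H l z (up_map z l) (lft_qr _ _) (gr_qr z)
  have hS := Graph.shortExact_mulc (lft (𝟙 T) z).left h1 (Dι (pr C T ≫ z) (qr C T)) e he hM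
  have hS' := Cohder.RDAcyc.map_shortExact (Coh.push (pr C T).left) hS hR
  obtain ⟨b, w, h2, h3⟩ := abs_tower (Coh.push (pr C T).left)
    (Scheme.Modules.pullbackPushforwardAdjunction (lft (𝟙 T) z).left) (kap z)
    (Graph.mulc (Dι (pr C T ≫ z) (qr C T)) (tw N (up l) (qr C T)))
    (Graph.mulc_unit (lft (𝟙 T) z).left h1 (Dι (pr C T ≫ z) (qr C T)) e he hM) hS' θ
    (twι N (up l) (qr C T)) (twι N l z) _ hθ
  refine ⟨b, w, h2, h3.trans ?_⟩
  rw [ev_eq]
  rfl

end gen

end K587.Tower
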